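import Cfsg.Agent.Lib.KnownSimple.MultM.TitsL.Bound
import Cfsg.Agent.Lib.KnownSimple.MultM.TitsL.NatD
import Cfsg.Agent.Lib.KnownSimple.MultC.ComP
import Cfsg.Agent.Lib.KnownSimple.MultC.LowS

/-!
# The natural representation
-/

set_option autoImplicit false

namespace Cfsg.Agent.Lib.KnownSimple.MultM.TitsL

open Cfsg Cfsg.Spor Cfsg.Agent.Lib.Compute Cfsg.Agent.Lib.KnownSimple.PE Cfsg.Agent.Lib.KnownSimple.Leech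
open Cfsg.Agent.Lib.KnownSimple Cfsg.Agent.Lib.KnownSimple.AutRigid Cfsg.Agent.Lib.KnownSimple.Pres
open Cfsg.Agent.Lib.KnownSimple.MultC


open Cfsg.Agent.Lib.KnownSimple.MultC.ComP

abbrev d : ℕ := 5
abbrev N0 : ℕ := 1755
theorem hP : IsPres d v (stdRels S) := hPs
/-- The table of the letters. -/
noncomputable abbrev τN : ℕ → ℕ → ℕ := tauP d tn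
set_option maxHeartbeats 0 in
set_option maxRecDepth 100000 in
theorem hCN : chkCoset τN d N0 = true := by decide +kernel
/-- The natural table. -/
noncomputable def CN : Coset d N0 := mkCoset τN hCN
set_option maxHeartbeats 0 in
theorem hok : ∀ r ∈ stdRels S, ∀ l ∈ r, l < 2 * d := words_of_chk (by decide +kernel)
set_option maxRecDepth 100000 in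
/-- The relators up to rotations. -/
def R0N : List (List ℕ) := [[0,0],[2,2],[4,4],[6,6],[8,8],[0,2,0,2,0,2,0,2,0,2,0,2],[0,4,0,4,0,4,0,4,0,4,0,4],[0,6,0,6,0,6],[0,8,0,8,0,8,0,8,0,8,0,8,0,8,0,8,0,8,0,8,0,8,0,8],[2,4,2,4,2,4,2,4],[2,6,2,6,2,6,2,6],[2,8,2,8,2,8,2,8,2,8,2,8,2,8,2,8,2,8,2,8,2,8,2,8,2,8],[4,6,4,6,4,6,4,6,4,6,4,6],[4,8,4,8,4,8,4,8,4,8,4,8,4,8,4,8],[6,8,6,8,6,8,6,8,6,8,6,8,6,8,6,8,6,8,6,8,6,8,6,8],[0,2,4,0,2,4,2,0,4,2,0,4,2,4],[0,2,4,2,0,2,4,2,0,4,2,4,2,4],[0,2,4,2,4,0,4,0,4,2,4,2,0,4],[0,4,6,4,2,4,6,4,0,6],[6,2,4,2,6,2,0,2,4,2,4,0,2],[0,2,8,6,8,0,4,6,0,8,2,6,4,6,0,4],[0,6,2,4,2,6,8,6,2,4,2,6,0,8,4,8],[0,4,8,4,0,6,2,8,2,4,2,4,2,8,2,6],[0,4,2,8,4,0,6,2,8,4,2,4,8,2,4,6]]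
set_option maxHeartbeats 0 in
set_option maxRecDepth 100000 in
theorem hrrN : (∀ r ∈ R0N, r ∈ stdRels S) ∧ (∀ r ∈ stdRels S, ∃ r₀ ∈ R0N, ∃ k, r₀.rotate k = r) :=
  of_chkRot (by decide +kernel)
set_option maxHeartbeats 0 in
set_option maxRecDepth 100000 in
theorem hl00 : ∀ r ∈ R0N, ∀ i, i < N0 → actW CN.τ r i = i := loops_of_chk (by decide +kernel)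
theorem hl0 : ∀ r ∈ stdRels S, ∀ i, i < N0 → actW CN.τ r i = i :=
  loops_rot CN (fun r hr => hok r (hrrN.1 r hr)) hl00 hrrN.2
theorem ex0 : ∃ ρ : P →* Equiv.Perm (Fin N0), ∀ x, x < d → ρ (v x) = (CN.p x)⁻¹ := exists_rho hP CN hok hl0
/-- The natural representation. -/
noncomputable def ρ0 : P →* Equiv.Perm (Fin N0) := ex0.choose
theorem hρ0 : ∀ x, x < d → ρ0 (v x) = (CN.p x)⁻¹ := ex0.choose_spec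
set_option maxHeartbeats 0 in
set_option maxRecDepth 1000000 in
/-- The chain of points. -/
def LV : List (ℕ × List (List ℕ)) := [(0,[[],[2,0,4,0,4],[2,0,8,2,4],[2,8,6,0,4,0],[8,4,6,0,8,6],[4,0,4,0,2],[4,2,8,6,4,0],[0,4,0,6,8,2],[0,6,2,6,0],[4,2,8,0,2],[0,2,4,0,4,0],[0,8,6,2],[2,8,0,6,0,8],[0,6,0,8],[0,8,0,6,0,4],[2,6,2,6,4,6],[8,2,4,8],[0,4,0,4,0,2,4],[0,2,0,2,4],[2,0,2,4,6],[2,0,6,0,2],[8,6,8,4,0],[2,0,4,6,8],[2,4,2,6],[2,4,6,8],[0,2,8,0,4,6],[2,6,8,4,2],[2,0,8,2,8,2],[2,8,6,4,0,4],[8,0,6,0],[8,6,4,2],[0,2,0,6,4,6],[0,4,8,6,8],[4,0,4,0,6],[2,6],[2,8,0,4,0,6],[2,8],[2,0,2],[0,2,0,2,6,0],[6,2,4,8,4,6],[2,4,0,8,2,8],[8,2],[2,8,6,2,4],[0,8,6,2,4,8],[4,0,4,0,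2,0],[2,6,0,4,8],[0,4,8,6,4,6],[4,6,0,8,6,0],[2,6,8,0,2,0],[6,2],[6,8,0,4,0],[2,6,8,0],[4,0,8,4,0,2],[0,6,2,0,2,0],[6,2,6,8,4],[0,4,2,8,4],[0,4,2,0,8,4],[4,0,8,2,8,6],[8,2,6,2],[2,8,6,4,2,0],[0,4,6,0,2],[0,6,8,0,6,2,0],[4,6,2,4,6,8],[0,8,6,0,4],[8,6,0],[0,8,2,8,4],[4,2,0,2,0],[0,4,0,4,8],[0,2,6,4,0,6],[0,6,4,6,2],[0,6,8],[6,8,0,6,0,2],[2,6,0,8,4],[2,6,8,4],[0,8,2,6,8,2],[4,2,8,2,8],[4,8,4,0,6,0],[6,8,6,4,2],[0,8,4,0,4],[0,6,2,4,0,4],[0,8,2,0,2,8,0],[0,2,0,4,0,4],[2,4,8,4,2,6],[2,0,4,2,4],[0,2,0,8,6,2],[0,6,8,4,6,8],[6,2,4,2],[0,4,6,4,8,2],[8,4,2,8],[0,6,8,0,6,4],[0,4,6,4,8,0],[0,4,6,0,4,6],[4,0,8,6,0],[8,0,8,2,6],[6,0,4,0,6],[4,0,2,4,2,8],[2,4,6],[0,6,4,2,4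,8],[4,0,4,0,6,0],[0,2,6,8,0],[8,4,0,8],[0,4,6,8],[2,0,6,8,2,8],[0,2,8,4,2,8],[0,4,8,4,8],[2,0,6,2,6,8],[6,4,0,4,2,8],[4,2,0,2,8],[6,0,8,6,8],[0,2,4,8,0],[0,8,6,8,4,2,6],[0,4,0,4,6],[2,4,6,4,6,2],[0,4,6,2,4],[0,4,0,2,6],[4,6,2,0],[0,4,2,8],[2,0,6,8],[8,2,6],[0,8,2,8,2,4],[0,6,8,4,6,0],[0,2,0,6,4,0],[8,6,2],[4,6,8,4,2],[4,2,0,4],[4,6,4,8,4],[2,4,6,4,0],[4,6,4,6],[6,4,8,0,4,6],[4,6,4,2],[6,8,0,8,4,6],[6,2,4,6,8],[8,0,2,0,6,4],[0,2,6,0,2,6],[2,0,2,0,6,4],[0,2,0,2,8,4],[2,0,4,8],[0,4,6,4,8],[0,2,0,2],[6,8,4,2],[8,6,0,4],[0,8,0,4,8,0,4],[2,4,0,4],[2,8,4,2,8,4],[2,8,2,4,0,4],[2,6,0,2,4],[4,8,4,0],[0,2,8,2,6],[0,2,6,4,2],[4,2,6,0,2],[8,2,0,2,8],[0,4,2,6,4],[2,0,2,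0,8],[2,4,0,4,8,6],[2,8,6,2,8],[2,8,6,8,6,4],[6,8,0,4,2,4],[0,2,8,2,0],[4,8,4,6,0,4],[2,4,6,4],[0,8,4,2,6,4],[4,8,4,6,8],[0,4,0,2,0,2,0],[4,0,4,6,0,2],[8,2,6,4,8],[2,8,0],[4,6,4,8,6,8],[4,8,6,8,0],[4,2,6,0],[4,0,2,4,8,6],[6,0,8,2,4],[6,8,2,8],[0,4,6,2,4,2],[4,2,4,8],[8,2,6,4,2],[0,4,8,6],[2,4,2,0],[2,0,6,8,2,4],[0,6,4,8,2],[2,8,4,2,0],[6,0,8,6,2],[0,8,0,6,4],[4,0,6,8],[4,8,4,2,4],[0,8,4,2,6,0],[0,8,0],[0,2,6,8,2,0],[2,8,2,4],[8,6,8,4,2],[0,8,4,2,6,2],[8,6,4,8,4],[0,2,6,8],[0,8,2],[2,8,4],[4,8,6,8,6,2],[0,8,2,8,0,4],[0,4,6,8,0,8],[4,2,8,0],[0,8,2,6,8],[0,2,8,2,8,2],[6,4,6,4,0,8],[4,6,8,2,0,2],[2,8,4,6,8],[0,8,2,6,2],[0,8,4,2,0,2],[6,0,2,0,6],[0,8,4,8,4],[0,8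,4,6],[8,4,6,8],[2,4,2,8,6],[8,6,8,4,6],[0,8,6,2,8],[4,0,2,4,2],[6,2,0,2,8],[2,4,6,8,0],[4,0,8,4,2,8],[4,6,8,4],[4,6,0,8,4],[4,8,2,6,4,0],[2,4,0,4,8],[0,4,2,8,0],[0,8,6,8,6,2],[0,8,2,6,0],[0,6,8,0,2,6],[4,8,2],[0,4,6,2,8,4],[8,6,8,0,8],[6,4,0,2,0],[2,8,4,6,0,4],[4,6,0,4],[2,8,0,2],[2,0,8,0,2],[2,0,2,4,8,0],[8,0,6,8,0],[8,0,2,4,8],[0,6,2,4,0,8],[2,0,2,6,0],[0,6,4,0,8],[0,8,0,2,6,4],[2,8,6,8,2,0],[4,2,6,2,4,6],[0,2,8,2,0,6],[0,4,0,4,0,4],[4,8,4,0,4,6],[2,0,4,0,6],[2,6,0,2,6],[0,2,4,0,2],[2,4,2,8,6,8],[2,8,2,4,0,6],[2,4,0,6],[2,8,4,2,8,6],[2,8,4,2,0,6],[8,4,8,0,8,2],[4,2,8,2],[8,0,6,8,4],[4,0,4,2],[0,4,6,2,0,8],[8,2,6,2,8,6],[0,4,0,6,8,0,2],[0,2,6,8,4],[0,8,4,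2,8,6],[2,0,8],[2,8,2],[2,0,8,2],[6,8,6,2,0,6],[6,0,4,0],[8,6,4,8],[4,6,4,2,6],[8,0,2],[2,6,4,8,4],[6,2,4,0,6],[0,2,4,6,4],[8,2,0,8,6],[4,2,0,4,0],[2,0,4,0,6,0],[0,2,6,0,8,4],[0,6,2,4,6,8],[8,2,4,2,6],[0,2,6,8,6],[0,2,4,2],[4,0,4,0,8],[0,4,0,6],[8,4,6,0],[0,2,4,0,6,0],[0,6,4,6,2,4],[2,8,4,0],[4,2,4,8,6],[2,4,6,0,8,0],[2,4,2,8,6,2],[4,6,8,6,0,4],[8,0,8,0],[4,0,8,4,0,6],[8,4,0],[6,4,2,6,8],[8,0,2,8,2],[0,8,6,2,0],[2,0,6,2,0,8],[6,8,6,4,2,4],[4,8,6,0,4],[0,8,4,8,0,8],[0,6,4,6,8,0],[0,4,2,6,0],[0,4,8,6,4,8],[0,8,4,0,4,0],[0,4,6,0,4,0],[8,0,4,6],[8,0,2,4,2],[4,2,8,0,6],[0,8,4,2,8],[0,6,2,4],[2,8,0,2,6,0],[0,4,0,6,8,6],[0,8,4,2,4,6],[6,4,2,8,0],[0,4,2,8,6,2],[0,2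,8,2,6,4],[4,0,6,2,0,8],[4,2,0,2,0,2],[2,0,2,0,4],[2,0,6,8,6],[6,8,0,6],[8,2,0,2,4],[6,2,4,2,8],[0,6,4,0,2],[4,6,0,4,8,0],[4,6,4,8,0],[4,6,8,0,6],[6,2,4,8,6],[8,2,4,6,8,4],[2,6,8,6,4,8,0],[4,8,4,2,6],[6,8,6,2,0,4],[2,0,2,6,8,0],[8,2,8,2],[2,4,0,8],[0,4,8,6,2],[2,6,8,2],[0,4,0,2,4],[8,4,2,6,4],[4,0,4,0,4],[8,6,8,0,2],[4,0,4,2,6],[2,6,4,6,2],[4,0,2,0,4],[2,4,0,4,2],[0,4,2,0,8,0,2],[4,8,4,8,0],[4,8,4,6,4],[0,6,8,0,2,4],[2,4,6,4,8],[4,8,2,4,2,6],[2,0,4,0,8],[0,8,0,2,0],[0,8,6,8,0,4],[0,8,0,2],[4,0,8,2],[0,8,2,0,4,2],[6,0,4,8,0],[6,4,6,4],[0,4,6,2,0,4],[0,6,2,8,2,8],[2,6,2,4],[6,4,2,8,4,8],[8,0,2,0,2],[2,0,2,0,8,2],[2,6,8],[0,4,8,0,4,2,4],[0,6,2,0,2],[0],[4,2,6,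2,4],[4,2,8,6,4],[2,8,6,0,8],[4,6,4,8,2],[0,4,8],[2,4,2,0,4,6],[0,8,4,6,8],[0,2,4,2,8],[8,0,4,0],[0,2,8,4,6,0],[0,2,8,2,0,6,8],[0,8,0,2,8],[0,6,0,2,0],[2,4,0,8,0,2],[4,0,2,0,2],[4,6,0,2,6,8],[2,6,0,8,2,8],[0,2,6,0,4,8],[2,8,4,8,2],[0,4,2,6,0,4],[0,8,4,2,0],[4,2,8,4,2,6],[2,8,6,8,6],[6,2,8],[0,6,8,4,2,4],[0,2,4,8,6],[8,6,2,4,8,4],[0,8,6,4,0,4],[0,8,4,2,6,4,6],[0,6,4,2,0],[8,2,4,6],[0,6,8,2,4,8,2],[6,8,6,0,2],[2,8,6,0,2],[0,8,4,8,0,4],[0,4,0,4,2,8],[0,4,0,8],[4,0,6],[4,6,4,2,6,8],[4,0],[0,8,6,8,0,2],[0,8,6,8,4,8],[0,4,2,4],[4,6,8,0],[0,4,2,0,4],[6,2,4,8,4],[6,2,4,8,2],[4,8,4],[0,4,6,4,8,2,4],[6,0,8,2,8],[2,4,6,2,0],[2,6,8,0,4,8],[0,2,6,0,8,2,8],[6,2,0,6,0],[0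,2,4,2,8,4],[6,0,8,0,2],[2,6,8,0,8],[2,0,8,0],[2,6,2,6,0,8],[6,2,4,0,4],[6,4,2,8,6],[6,2,8,2,0],[2,8,2,4,6],[4,0,8,4],[8,4,0,8,6,4],[4,0,4],[2,0,2,6,2],[6,8,6,2,0],[8,0,2,8,0],[2,8,6,2],[0,6,2,8,0],[6,4,2,8],[8,2,6,4,0],[8,6,0,2],[4,0,2,8,6],[2,4,6,4,8,2],[0,2,0,8,4],[2,4,0,8,6,2],[0,2,6,2,0,4],[2,8,0,6],[0,8,4,0,2,6],[8,4,2,4],[0,6,4,6,8,6],[0,8,2,6,4],[2,8,4,0,2,4],[0,6,8,2,4,8],[6,8,4,2,6],[0,8,0,6,0],[2,6,2,6,4],[4,6,2,0,4],[0,6,8,4,8,0],[6,0,2,6,8],[0,2,8,4],[0,2,6,4,0,4],[6,8,0,2],[2,0,6,8,2],[2,0,2,6,8],[2,4,0,6,2,4],[6,4,0,6],[0,6,0,2,0,4],[4,6,0,4,8],[0,2,6,4,6],[4,0,2,8],[0,4,8,0,4,6],[2,0,4,2,8],[8,0,2,6],[4,8,2,6],[0,4,0,2,0,6],[0,2,0,4,2,0,8],[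0,6,4,8,6,8],[0,4,6,2,8],[2,6,2],[2,8,4,6,4],[2,0,2,6,2,8,4],[2,6,4,0,4],[4,0,2,6,8],[6,8,6,8,2],[2,8,0,6,8,4],[2,6,0,8,2],[4,0,2,4,0],[0,8,6,2,0,4],[0,8,6,2,6,8],[2,0,4,6,0],[2,4,2,0,4],[0,6,4,6],[0,2,4,2,4,8],[6,8,2,0],[0,4,2,0,6],[8,0,4,6,0],[0,4,2,6,8],[0,4,8,4,8,4],[6,2,0,2,6],[0,8,6,4],[0,6,8,0,2,0,2],[4,0,4,6,4],[4,6,0,8,0],[4,8,6,0,2,6],[8,0,8,0,6],[4,8,2,0],[4,8,4,6,2],[0,4,8,2,8],[8,6,4,6,4,8],[2,6,8,6],[0,4,2,0,2,0],[0,4,0],[2,6,4,6,2,8],[6,4,8,0,6,8],[8,0,2,8,4],[4,2,0,8,4],[8,4,8,2,8],[0,2,0],[0,2,6,2,8,0,8],[0,2,6,2,0,8],[0,2,0,2,4,2],[6,8,6,2],[4,6,8,4,6],[8,0,8,0,8],[2,8,0,4],[8,6,4,8,0],[2,4,2],[2,0,8,2,4,6],[6,2,0,2,8,6],[0,4,6,2,6,0],[0,2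,0,2,4,0],[4,2,8,4],[8,0,4,8],[0,2,4,6,8,0],[4,0,2,4,8,2],[0,6,4,8],[0,4,0,6,8,0],[0,6,4,0,4],[0,4,6,2,0,6],[4,2,0,6,2],[8,4,8,0,2,8],[6,8,6,0,8],[2,6,0,4],[6,4,6,4,8],[0,2,6,2],[4,0,4,0],[4,8,4,8,2,4],[4,6,4,8],[0,8,6,2,0,6],[0,4,8,2],[2,6,4,0,6],[0,8,6,4,0],[0,4,6,8,2,6],[0,2,6,0,4,0],[6,4,8,0,4],[6,2,4,6,4],[2,6,2,0,6],[2,0,6,0,2,8],[2,4,8,4,6],[4,6,8,2,4],[0,8,0,2,6],[6,0,8,6],[2,0,8,6],[6,2,0,6],[8,6,8,6,8],[8,2,6,0],[0,6,2,4,0],[0,6,2,6,0,4],[6,2,0,6,4],[0,4,8,4],[4,2,4,6],[4,6,0,2,6,2],[6,0,2,8,2,4],[4,2,0,4,0,4],[8,0,2,0,4],[4,6,0,8,0,2],[0,2,6,8,2,6],[0,6,2,8,6,2],[2,0,4,2,8,4],[8,6,8],[8,2,6,4,6,2],[0,6,8,4,8],[0,6,8,6,2,8],[4,0,2,4],[0,6,2,8,4,8]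,[6,0,4,6],[0,8,6,0,2,0],[4,6,8,4,6,2],[4,8,4,8,2,0],[6,2,6,0,4,6],[2,6,0,2,8,0],[2,8,4,6,2,6],[2,0,2,0],[0,4,0,2,6,4],[8,2,8],[6,8,0,6,8],[0,8,0,2,4,6],[8,2,0,6,4],[0,8,2,0,4,8],[4,0,4,6,0],[8,0,2,6,0],[6,0,4],[2,6,4,0,4,0],[4,8,6,0,4,8],[6,4,8,4,2],[2,0,4,8,0,2],[2,6,8,4,6,0,2],[6,0,8,2],[2,0,6,2,6],[4,8,6,4],[0,6,8,0,2,0],[0,8,6,8,4],[0,4,6,8,0],[4,6,8,0,6,2],[4,8,2,0,8],[4,8,6,4,8,4],[0,2,8,4,0,8],[6,4,2],[0,6,2,0],[4,0,8,0,6,2],[0,6,2,4,6,0],[6,2,6],[8,2,0],[6,2,4,2,4,6],[0,4,8,2,4],[2,8,0,6,2],[2,0,4,0,6,8],[0,8,6,0,8],[2,8,4,6,0],[4,0,2,6,4],[4,6,0,2,6],[0,4,6,2,6,8],[0,2,4,8,0,4],[6,2,8,0,4],[4,6,8,2,0],[6,0,2,6],[2,4,6,4,0,8],[2,0,4,6,8,0],[0,2,8,2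,8],[4,0,8,6,8,0],[0,8,4,2,4],[8,4,0,2],[0,6,0,4,0,2],[0,2,4,6,0],[0,8,0,4],[8,2,6,4,6],[0,8,6,8,2,0],[8,2,0,2],[8,2,6,4,8,6],[6,8,4,2,0],[2,4,0,4,8,0],[6,4,2,4],[6,8,6],[4,6,0,2,8],[0,8,2,6,0,2],[8,2,0,8,0],[0,2,4,8,6,2],[4,2,8,6],[4,0,8,0],[0,8,6,8,4,0],[0,4],[2,6,8,0,8,0],[4,2,6,2],[0,2,0,2,4,6],[0,4,8,0,4,2],[2,0,2,4,0,6],[0,2,0,4,2,8],[2,4,6,2,0,4],[2,4,0,6,8,6],[0,2,8,2,4,6],[4,6,2,4,0],[8,2,6,4,6,4],[0,4,2,0,4,6,8],[4,0,6,2],[8,0,6,8],[8,0,6],[0,6,8,6,0],[0,2,6,4],[6,0],[6,0,8],[8,4,8,2,0],[8,6,0,8],[6,0,8,6,0],[0,6],[0,2,0,4,2,4],[8],[0,4,0,4],[0,6,8,0,6],[2,4,0,6,8,4],[4,6,0,4,6],[6,8,4,2,4],[6,4,2,8,2],[4,6,4,8,6,2],[2,6,8,6,8,2],[2,8,0,2,6],[6,0,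2,8,2,0],[2,6,2,6,8],[0,6,0,8,0],[0,4,2,6,4,6],[0,8,4,0,4,2],[0,6,0,4,0,8],[4,6,2,0,6,4,0],[0,2,6,0],[4,6,2,6,4],[0,8,2,0,2],[0,6,0,8,6,8],[2,6,2,0],[4,8,2,4],[6,4,8,0],[2,4,0,6,2,6],[8,2,4,6,2],[0,2,8],[0,4,8,6,4,2,0],[8,0,8,6,2],[8,0,8,6,4],[6,4,6,8,6,8],[0,6,8,0,8],[4,2,6,4,2,6],[2,8,0,8,0],[8,4,6,8,0],[2,6,8,6,4,8],[6,0,2,4,0],[0,6,2,8],[0,6,2,8,6,2,4],[2,8,0,2,0,2],[0,6,8,4,0,4],[0,4,6,8,0,2],[2,6,4,2,8],[6,4,6,8,0],[0,6,8,4,0,2],[4,6,0,2],[4,0,2],[0,4,8,0,6],[2,6,0,8],[4,2,0,6,0,8],[2,8,0,4,8],[2,0,8,2,6],[0,8,2,0],[0,8,4,0,2],[6,8,0,8,2],[0,4,6,8,4],[8,4,2,0,6],[0,6,4,8,2,4,8],[4,0,4,0,6,8],[2,8,4,6,2],[0,4,0,4,0,8],[4,6,2],[2,6,2,4,0],[0,4,0,8,0],[2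,0,4,2,4,6],[0,8,6,8,4,2],[0,6,8,2],[0,4,8,2,0,4,8],[0,6,8,4,6,4],[0,8,4,2],[6,0,8,4,2],[4,2,8,6,8],[2,8,4,0,2],[2,4,8,2,0,8],[6,8,4,2,6,4],[6,0,2,6,8,2],[0,2,4,0,2,4],[4,2,6,4,6],[4,0,8,4,0],[2,4,0,6,8,0],[6,4,8,6],[0,6,8,2,8,0],[2,4,8,0,8],[2,8,0,4,0],[2,8,4,2,8],[8,4,6,2,4],[4,2,8,6,4,6],[2,4,6,2,0,4,8],[8,0,2,6,2],[2,6,4,2,8,6],[8,6,0,2,6],[0,8,4,8],[0,2,4,8,4,2,6],[2,8,0,8,6],[0,8,0,4,8,0],[4,0,2,6],[8,6,8,6],[4,8,4,6,0,2],[2,8,0,2,0],[2,4,0,4,6,8],[4,0,8,6,2],[0,2,6,0,8,0],[4,6,4],[6,2,8,2,6],[6,0,2,4,8,0],[8,4,6,0,8],[2,6,2,6],[0,8,2,0,2,8],[0,8,2,8,0,2],[0,2,6,8,4,8],[0,4,6,2,4,0],[0,8,0,2,0,8],[2,0,6,0,8],[0,8,2,8,0,6],[4,2,6,2,0],[4,8,4,6,8,2],[8,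4,6,0,2],[4,2],[2,0,6,2],[0,6,4,8,6],[0,2,6,2,8,6],[8,6,2,8,4],[0,2,0,6,2],[0,2,4,2,6,8],[8,0,8],[8,6,4],[2,4,2,4],[0,8,6,0,2],[0,4,2,0,8,6],[8,6,8,0,8,4],[0,6,0,4,8],[2,6,8,2,0],[0,2,4,8],[0,8,0,6,4,8],[0,2,6,2,0,6],[0,4,6,2],[0,8,2,6],[0,2,8,4,2],[0,4,2,0,8],[0,6,2,8,4],[0,4,2,0],[0,4,2,4,6],[6,8,2,6,0],[4,8,4,6,2,6],[2,8,0,2,8],[2,0,4,8,0],[2,4,8,2,4],[0,2,0,4,8],[0,2,6,2,8,0],[8,2,0,8,0,6],[2,8,6,0],[0,6,8,0,6,2],[0,2,6,2,6],[8,2,6,2,8],[8,6,0,8,0],[4,6,8,2,6],[4,8,4,6],[0,2,4,0],[6,0,2,0,4],[6,0,4,8,0,6],[2,4,8,0],[0,8,6,8,2,6],[6,8,0,2,0],[2,0,2,0,6,0],[2,8,0,8,6,0],[0,6,4,8,4],[8,6,2,6,8],[2,8,0,6,0,2],[2,0,6,2,8,6],[0,6,4,0,8,4],[6,4,8,0,6],[6,8,0],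[2,4,8,4,2,0],[0,6,0,8,4,8],[2,6,4],[0,2,6,4,0],[2,0,4,6,0,8],[0,2,6,0,2,4],[6,4,8,2,6],[2,4,2,6,8],[0,8,6,8,0,4,2],[4,2,8,2,8,4],[0,2,8,2,4,2],[8,4,0,8,4,8],[0,4,8,4,8,6],[0,8,0,4,0,6],[6,4,0,4,2],[4,0,8,6,4],[6,8,2,6],[8,0,8,4,8],[0,4,0,2,6,8,2],[0,2,4,0,4],[4,8,4,8],[8,0,6,8,4,6],[8,2,4,8,4,8],[2,8,4,0,4,0],[2,4,8,0,2,8],[2,0,6,4],[0,4,2,6],[0,8,0,2,6,2],[0,2,4,8,0,4,2],[0,4,8,0,4,0],[2,8,0,2,6,0,2],[0,6,4,2,0,8],[0,6,2,0,6],[0,6,4,6,4,6],[2,8,0,6,8,0],[0,2,6,2,6,4],[2,6,0],[4,8,2,6,2],[0,2,4,8,6,4,6],[2,0,8,2,4,8],[0,2,0,4,8,2,0],[0,4,6,8,2],[0,2,6,8,4,0],[2,0,6,4,8,6],[2,0,6,2,8,2],[2,4,0,2,0],[8,4,0,8,6],[2,4,2,0,2,8],[0,2,4,0,6,2,4],[0,2,6],[4,6,2,4,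6],[0,6,8,0],[4,8,2,4,6,0],[2,6,8,4,6,0],[6,2,4,2,4],[2,0,2,4,2],[4,6,4,8,6],[0,8,0,6],[2,0,8,2,0,4],[0,2,6,2,4],[0,2,4,0,4,2],[4,0,4,0,2,8],[6,0,2,8],[2,0,2,4,8,6],[4,8,6,4,2],[0,4,8,2,0],[0,8,2,6,4,2],[0,4,0,4,8,2],[2,0,8,0,8],[6,2,0,2],[4,2,6,4,8],[4,0,8,4,2],[4,0,8,2,4],[4,0,4,6],[0,2,4,8,4,8],[0,8,6],[0,8,6,2,6],[8,2,4,6,8,0],[2,0,6,8,2,8,6],[0,8,6,8,6,4],[6,8,2,8,2],[2,4,6,0,8,4],[4,2,0,6,0],[0,2,4,8,6,4],[2,8,6,2,6],[4,6,8,6],[0,8,4,6,0],[4,0,2,0,4,8],[0,2,4,6],[0,2,0,6,4,8],[0,8,0,4,0,4],[4,6,0],[0,8,2,8,0],[6,2,0,2,8,6,0],[8,6,2,8],[0,4,8,4,8,0],[0,8,4],[0,2,4,0,8,0],[4,2,6,2,8],[4,0,8,2,0,4],[8,4],[0,8,4,2,6],[4,6,8,0,6,8],[4,6,8,4,8],[0,6,0,8,6,4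],[6,2,4,2,0],[4,6,2,4,2,8,0],[2,0,4,0,4,2],[2,0,4,0,4,6],[0,6,8,4,6],[0,4,6,8,6],[2,8,0,4,8,4],[2,0,6,8,4],[2,8,6,4,6],[0,4,8,4,0],[4,6,2,0,6,4],[6,2,8,2],[0,2,0,8,4,6],[0,2,4,2,6],[2,4,0,8,2],[6,8,6,8],[0,2,4,8,4,0],[8,6,0,8,4],[4,6,8,6,8],[0,6,2,8,6],[0,6,8,4,0,6,0],[8,6,8,4],[8,2,4,6,8],[0,6,0,4,0,6],[0,4,2,0,8,0],[2,0,8,6,2],[6,4,0,4,6],[4,0,6,8,2,0],[2,8,4,2],[0,6,8,4,2,8],[0,8,6,0],[8,2,4],[0,6,4,0,6],[6,4,2,6,4],[2,0,6,0],[0,2,0,6,8,4],[6,4,0,2,6],[2,4,6,0,8],[0,4,0,4,6,4,2],[4,8,6],[8,6,0,2,6,4],[0,4,2,8,4,8],[4,6,2,0,8,4],[2,4,8,2],[2,0,8,0,4],[0,8,6,2,4,0],[0,2,0,2,6],[6,0,8,2,8,2],[8,0,8,6,2,0],[6,4,8,4],[6,0,2,8,6],[0,4,8,0,8,2],[0,2,8,4,0],[0,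2,6,8,2],[8,0,4,0,6],[6,2,8,2,8],[0,8,4,8,4,6],[6,8,6,0],[8,6,4,6],[4,0,8,2,0],[4,2,6,8,6,8],[0,4,0,4,0],[0,2,6,8,0,8],[0,2,6,4,6,2],[4,2,8,6,0],[0,2,6,4,2,8],[0,4,6,8,4,6,0],[0,2,6,8,6,4,0],[0,4,8,6,2,0],[6,8,4,6,8],[6,2,8,0],[0,6,8,2,4],[6,2,4,8,6,0],[2,0,8,2,8,6],[6,4,6,4,0],[4,6,2,6],[0,2,4,6,4,0],[0,8,0,4,2],[0,4,6,4,6],[6,0,2,6,4],[8,0,4],[6,0,2,8,2],[0,6,4],[0,6,2,8,0,6,0],[0,4,2,0,4,8],[8,2,4,6,4],[0,4,8,4,2,0],[2,8,6,4],[0,8,0,4,8,4],[6,4],[2,6,4,6],[4,8,6,8],[0,6,4,6,8],[6,8,0,8,4],[2,6,0,8,2,0],[0,8,0,4,6],[2,0,8,6,0,2],[4,8,6,0,2],[0,2,0,4,2,0],[6,2,4,6,2],[2,0,2,0,2,6],[0,8,4,8,6,4],[4,8,2,0,4],[0,4,2,4,6,8],[6,0,4,0,8],[0,2,8,0],[4,8,4,8,2],[2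,6,8,4,8],[0,8,0,4,0,4,0],[8,6,8,2],[8,0,2,4],[8,4,6,2,6],[4,6,8,6,2],[4,0,6,8,2],[2,8,0,6,4],[6,4,8,6,2],[0,2,8,2,6,2],[6,4,2,8,6,0],[0,4,6,2,0],[6,0,2,0,2],[8,6,8,0],[2,4,8,0,2,6],[0,6,8,2,6,0],[8,4,6,8,4],[2,8,0,2,6,4],[0,4,0,2,0],[8,6,8,6,0],[2,6,8,4,8,6],[2,8,6,8,2],[8,4,8,6],[6,4,2,6,0],[4,6,8,4,6,0],[0,2,6,2,4,2],[4,2,8,4,2],[6,4,2,0],[2,8,2,4,8,0],[0,2,0,4,0],[4,6,2,4,2,8],[2,8,0,8,6,4],[4,0,2,4,8,6,4],[0,8,4,6,2,0],[2,6,4,6,2,6],[6,0,8,0,4,6],[6,0,2,6,0,8],[2,8,4,8,2,6],[6,4,2,8,4],[2,4,6,4,6],[6,4,0,4,8],[4,2,6,4],[6,2,6,0],[8,2,4,2],[2,6,4,8,0],[6,0,2,0,8],[0,4,0,2,0,8,6],[4,0,6,2,0],[0,6,2,0,2,6],[4,2,6,0,2,0],[0,2,0,8,6,2,8],[8,4,2,6,8],[0,8,2,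6,2,0],[8,4,0,6,0],[0,4,8,0,8],[2,6,2,6,8,2],[0,2,0,4],[6,0,8,2,8,0],[2,8,4,0,6],[8,4,8],[0,6,4,8,6,8,6],[0,6,4,2,6,8],[0,2,4,6,8],[6,0,8,0],[2,4,6,4,0,2],[0,4,6,4,0],[0,2,4,6,0,4],[6,2,4,6,0],[0,6,0,4,8,6],[0,6,8,6,2],[8,0,2,8],[2,0,2,4,0],[2,8,6,2,4,8],[0,8,4,6,0,4],[4,8,2,0,8,2],[6,8,0,8,6],[4,8],[0,6,8,6,8,0],[2,6,4,8],[2,4,2,0,4,0],[2,0,2,0,8,6],[0,2,4,8,4,2],[0,8,4,6,8,4],[0,2,0,8,6],[4,8,4,8,0,6],[6,2,4,6],[0,4,2,6,8,2],[2,8,4,0,4],[4,8,2,4,6,8],[2,8,0,6,8],[4,8,4,8,6],[4,6,0,8,6],[0,4,0,6,8],[2,6,8,4,6],[8,4,8,2,8,2],[4,0,8,0,6],[6,4,6,2,4],[8,0,2,0,6],[4,2,6,2,8,6],[0,2,0,2,8],[6,8,0,4],[4,2,6,2,4,8],[0,8,4,0,8],[8,0,2,8,0,6],[2,4,8,4,2],[0,8,6,8,0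,2,4],[4,6,8,0,4],[4,0,4,6,4,6],[0,6,2,8,0,2],[0,2,4,2,0,6],[0,6,0,4,0],[8,4,8,0,2,0],[6,0,4,8,2],[0,4,2,6,4,0],[2,8,0,6,2,0],[0,2,8,2,6,0],[0,6,0,8,0,2],[2,4,2,6,8,0],[0,8,4,6,2],[8,6,4,2,0],[2,8,4,6,8,4],[0,6,8,2,6,4],[8,6,2,4,8],[4,8,4,0,4],[4,0,8,4,0,8],[4,6,0,4,0],[8,0,4,8,0],[0,4,6],[2,4,6,2,4],[2,0,4,0],[4,6,2,6,4,2],[2,8,6,0,4,6],[4,6,2,0,2],[2,4,0,8,0],[2,0,8,0,4,0],[0,2,8,2,0,8],[2,8,6,4,2],[2,6,4,2,0],[6,4,0,2,8],[2,4,0,4,6],[0,6,0,4],[2,0,8,2,0],[8,6,4,8,0,4],[4,6,8,0,4,6],[6,8,0,4,8,0],[0,2,6,4,2,0],[0,2,0,2,6,8],[6,8,2,8,4],[4,6,2,0,8],[0,8,2,0,4],[0,2,0,4,2,6],[4,8,4,2,8],[8,4,6,2,4,0],[2,4,2,4,6,8],[6,4,8,2,4],[4,8,2,4,6],[0,4,6,2,6],[4,2,8]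,[0,6,4,8,0],[6,4,8,4,0],[0,8,0,6,8],[2,0,2,0,6],[4,0,8],[0,4,0,4,0,2],[2,4,0,4,8,4],[4,6,2,0,6],[6,0,8,4],[8,0,2,8,2,6],[2,4,8,2,4,8],[0,4,8,2,0,4],[6,8,4],[0,6,0],[0,6,8,4,2],[6,0,2,4,8],[2,0,4,2],[8,0,6,2],[6,8,6,4],[8,0,8,0,4],[4,8,4,0,6],[4,6],[6,8,4,2,8],[4,0,8,2,8],[0,2,4,2,0],[8,4,6,2],[8,2,6,4],[2,4,8,0,2],[0,2,8,4,2,0],[0,6,4,0],[8,2,4,8,6],[4,0,8,6,2,4],[8,4,6,2,4,6],[2,0,2,0,2],[4,0,2,4,6],[2,6,8,2,0,6],[0,6,2,8,2],[0,6,0,8,2],[4,8,4,0,8],[4,2,6,8,0],[0,8,2,8,2],[6,4,6],[0,6,2,6,8,4],[6,0,2,6,0],[4,0,8,6,8],[2,0,2,4,2,0],[2,6,4,0,4,2],[4,0,4,0,6,2],[4,6,0,8],[4,2,0,8,2],[2,6,8,0,4],[2,0,6,4,2],[4,2,4,6,2,8],[6,4,0],[8,2,0,6,2],[2,8,0,4,2],[0,8,6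,8,0],[0,4,2,0,2],[6,4,8],[2,4,8,0,4],[6,4,6,2],[2,4,8],[8,0,2,4,0,8],[0,8,0,2,4],[6,8,0,4,2],[0,4,0,2,6,2],[0,2,8,2],[0,2,0,6,4],[6,0,2,8,0],[6,4,2,0,6],[0,6,0,8,0,6],[4,6,8,2],[8,6,8,0,4],[0,4,6,0,4],[2,4,2,4,6],[4,8,6,0],[2,0,6],[2,6,0,4,8,4],[0,8,2,6,2,6],[8,0,6,0,2],[8,4,2,8,4],[0,8,2,0,4,8,2],[2,0,6,8,4,8],[8,6,0,2,8],[0,8,4,0,8,6],[6,8,0,4,8],[0,2,4],[8,4,8,0],[4,6,2,0,6,8],[4,2,0,6,0,4],[0,2,8,0,4],[0,8,6,8],[4,6,0,4,8,4],[0,6,2,8,2,4],[4,2,8,2,6],[2,0],[2,0,4,6,8,6],[2,6,0,2,8],[8,6,8,6,8,2],[6,2,6,0,4],[0,6,0,8,6,2],[4,2,0],[4,0,4,0,8,2],[2,0,4,0,2],[0,8,2,8],[4,0,2,0],[4,0,2,8,0],[8,2,0,6],[6,0,2,0],[0,4,0,2,6,8],[0,8,0,6,0,8],[2,6,0,2],[0,8,6,2,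8,2],[0,6,2],[0,2,0,6,8],[2,8,6,0,4],[8,4,6],[6,2,4],[2,8,4,6],[2,4,0,2,4,8],[4,8,6,0,2,4],[0,6,8,6,8],[8,0,8,4,2],[0,8,0,4,0],[4,6,4,6,8],[8,2,6,2,0],[4,6,0,4,0,8],[6,2,8,0,4,0],[0,4,0,4,2],[0,6,0,2],[2,0,2,6],[8,4,8,0,8],[4,0,6,8,6],[0,2,8,0,6],[0,4,2,0,4,6],[2,8,6,0,2,0],[0,4,2,6,4,8],[8,2,4,8,4],[2,0,6,4,6,2],[0,4,6,8,4,8],[0,6,2,8,6,0],[6,4,0,2],[0,6,2,6,8],[0,8,0,6,8,2],[6,4,2,8,0,4],[8,4,8,2],[6,0,8,4,2,8],[0,6,4,6,4],[0,4,8,4,2],[4,8,4,2,8,0],[2,0,6,4,6,8],[2,0,2,6,2,8],[4,2,0,4,8],[0,2,8,2,4],[4,2,0,2,4],[6,2,0,2,0],[0,8,2,0,6],[8,0,4,6,2],[0,4,0,4,8,4],[4,6,2,6,0],[4,6,8,6,2,6],[4,2,0,2],[0,6,4,2,6],[0,2,6,2,0],[0,6,4,0,6,8],[8,4,0,6],[0,6,4,8,2,6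],[0,8,2,6,4,0],[2,6,8,0,4,0],[2,4,6,4,0,4],[4,6,2,4,2],[0,6,0,2,0,8],[0,4,6,8,6,0],[6,4,2,0,4],[8,6,8,0,8,6],[0,8,4,0],[2,0,2,4,0,2],[4,8,4,2,0],[0,8],[0,4,8,6,4],[8,4,2,0],[2,4,0,6,2],[0,2,6,4,6,4],[2,4,6,0],[4,2,6,8],[8,4,0,8,4],[0,2,8,4,6,4],[0,4,6,4,8,6],[6,2,8,6],[2,0,4,6],[0,8,6,8,0,8],[0,8,2,8,2,0],[2,0,6,8,6,4],[0,4,2,0,2,6],[4,6,2,4,6,0],[0,8,6,2,4],[0,2,6,0,2],[8,0],[4,0,8,6],[2,8,6,8],[8,2,0,8],[6,0,2,4],[0,4,6,2,8,2],[0,4,0,8,0,8],[6,8,2],[4,8,6,8,6],[2,0,6,4,6],[6,2,4,8],[2,0,2,6,0,8],[2,4,8,4],[2,6,2,6,0,4],[2,4,2,6,4],[0,6,4,2,8],[2,4,0,8,4],[0,4,6,4],[0,4,2,6,0,8],[0,4,0,2,4,2],[0,2,4,2,0,4],[6,0,8,4,0],[8,4,2,8,0],[6,0,2],[4,0,8,2,4,8],[0,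6,8,6,2,6],[0,4,0,2],[4,6,2,4],[4,8,2,4,2],[4,0,4,2,8,6],[2,0,8,6,0],[8,0,2,0,6,0],[0,8,4,6,8,0,8],[8,6,4,6,4],[2,4,8,2,0],[4,0,8,4,2,4],[2,4,0,2,4],[8,0,8,2],[4,8,6,4,6,4],[8,6,2,8,4,6],[4,0,8,0,8],[0,6,2,8,0,6],[6,4,2,6,2],[2,6,8,6,0],[8,4,2,6,0],[0,2,8,4,6,4,8],[8,0,2,6,0,8],[4,8,4,2,6,4],[2,6,0,2,0,2],[6,2,8,0,2],[2,4,2,0,2],[0,2,6,0,2,8],[4,0,2,4,8],[2,8,0,6,0,4],[0,8,4,8,0],[0,2,8,2,8,4],[4,8,2,4,8],[4,8,4,8,4],[2,0,2,0,4,8],[2,8,6,8,4],[0,8,4,8,0,4,0],[0,6,2,6,0,8],[0,6,0,8,6],[2,8,6,0,8,4],[0,4,6,8,4,6],[0,4,8,0],[2,8,4,8,2,0],[2,6,8,6,4],[0,4,0,2,0,2],[6,4,2,6,2,0],[2,4,0,8,6],[4,6,4,8,4,0],[0,2,0,4,8,2],[0,6,0,4,6],[0,2,0,6,2,6],[8,0,2,6,8],[2,0,6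,4,8],[6,4,0,4],[0,2,6,0,8,2],[6,4,6,8,6],[0,4,6,0,2,8],[6,8,0,6,4],[4,2,8,6,0,4],[0,6,8,4,0],[0,8,4,2,8,0],[2,6,4,6,2,4],[0,2,6,4,0,8],[0,4,0,4,6,4],[0,4,8,2,8,2],[0,4,0,2,0,8],[2,6,2,6,0],[2,0,6,8,6,2],[0,2],[0,2,6,2,4,8],[8,6,2,8,2],[2,0,4],[4,0,2,6,2],[0,6,2,8,6,4],[2,6,0,8,4,2],[2,4,8,0,8,6],[2,8,4,8,4],[2,6,4,2,8,0],[6,8,2,6,0,2],[0,2,6,2,8,2],[0,4,2],[2,4,2,8,4],[6,4,6,4,6],[4,2,6,4,2],[8,4,6,2,6,0],[0,4,2,8,2],[2,4,6,0,2],[6,2,4,0],[4,2,4,6,2],[4,8,2,6,4],[0,6,0,8,4],[4,0,8,2,4,2],[0,8,6,2,8,0],[2,4,8,0,6],[0,6,8,4],[0,6,0,4,6,2],[2,8,0,6,0],[4,2,0,6],[2,0,4,2,8,2],[8,6],[0,6,8,2,6],[0,2,4,8,4],[2,6,2,4,6,0],[2,8,6,2,6,4],[2,8,4,8,6],[4,2,8,6,2],[0,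6,4,8,2,4],[4,8,6,4,8],[4,0,8,0,2],[0,2,6,0,4],[0,4,6,0],[6,8,0,6,0],[8,6,2,4],[8,0,8,2,6,8],[2,0,8,2,8],[2,6,0,2,8,6],[0,6,4,2,4],[2,6,4,2,6],[2,6,4,0,2],[6,8,0,4,6],[8,2,4,6,8,6],[0,2,6,8,6,2],[6,8,4,6],[2,0,4,6,8,2],[0,2,6,8,4,6],[0,4,6,0,8],[8,4,8,6,2],[2,6,8,0,2],[0,6,4,2],[0,8,0,2,6,0],[2],[4,0,2,0,2,0],[0,6,2,6],[4,2,6],[0,6,8,2,8],[4,0,8,0,6,4],[0,4,8,0,4],[0,2,6,0,8,4,2],[6,2,0],[4,2,6,8,0,2],[2,8,4,6,8,0],[6,4,2,8,4,8,2],[2,6,0,2,0],[0,8,0,4,8],[4,8,6,4,6],[2,6,8,6,8],[0,6,4,0,8,0],[2,4,8,2,0,6],[2,4,2,6,0],[0,2,6,4,0,2],[0,4,8,4,2,4],[0,8,6,8,6],[0,4,8,2,4,0],[8,6,8,6,0,8],[2,8,4,8],[2,4,0,2],[0,6,2,8,2,0],[8,0,8,6],[4,6,8,2,6,0],[6,4,2,6],[0,2,0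,6,8,6],[0,2,8,2,0,6,0],[4,2,0,8],[6,8,4,6,0],[2,8,6,8,0],[6,2,0,6,8],[6,4,6,8,6,0],[0,6,2,4,6],[0,4,0,2,4,8],[0,8,2,6,2,0,8],[2,4],[2,0,8,2,8,4],[4,6,8,0,4,2],[6,4,8,2,0],[2,8,0,8,4],[2,4,6,2],[2,8,2,4,8],[2,6,8,6,8,6],[2,4,2,8],[2,0,2,4,8],[0,6,8,6],[6,4,6,8,0,8],[0,2,0,4,2],[2,8,2,4,0],[2,6,2,4,0,6],[6,4,8,4,6],[2,8,6],[8,4,0,8,0],[0,2,6,0,8],[2,0,4,0,2,4],[2,0,2,4],[4,6,8,2,8],[0,8,4,2,0,6],[4,0,8,0,8,2],[8,6,8,6,8,0],[0,6,8,4,0,6],[6],[2,0,8,2,6,4],[0,8,0,6,8,4],[0,2,0,6],[4,0,6,8,2,4],[0,2,0,2,8,2],[0,6,8,6,0,2],[0,6,4,2,8,0],[2,4,0,6,8],[2,4,0],[2,0,4,2,6],[2,6,4,2],[8,4,6,8,6],[0,6,2,0,6,4],[6,4,8,2],[4,2,8,2,0],[0,4,8,4,2,8],[4,6,0,8,2],[2,6,4,0],[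8,4,2],[4,6,8],[4,2,6,8,6],[6,8,6,4,6],[0,2,0,2,6,0,4],[4,2,4],[0,8,0,2,4,0],[0,2,6,2,8,2,8],[2,0,6,2,0],[0,2,6,8,6,4],[0,2,0,8],[6,4,8,0,2],[0,6,4,6,4,8],[4,2,0,4,2],[8,2,6,0,8],[0,8,6,8,2],[2,6,4,2,8,2],[4,8,4,6,0],[0,6,8,2,4,0],[4,2,6,8,4],[0,6,4,8,2,8],[6,8,0,8],[0,8,4,8,6],[2,6,8,2,6],[6,8,2,6,8],[6,0,8,0,4],[2,6,8,0,2,8],[8,0,8,4],[0,2,6,2,8],[0,2,4,0,6],[6,0,4,8],[4],[2,8,6,4,0],[2,0,6,2,8],[6,8,6,4,8],[6,8],[0,2,4,6,4,6],[2,0,2,4,6,8],[4,6,4,8,4,8],[0,2,4,0,8],[0,2,8,4,6],[0,2,4,8,6,0],[0,6,8,0,2],[0,2,4,2,6,0],[2,6,8,4,6,8],[6,8,6,8,4],[2,8,0,8],[8,4,8,0,2],[8,6,2,8,6],[2,4,8,2,8],[4,6,8,2,0,4],[0,8,4,6,8,0],[8,0,2,4,0],[0,2,4,0,2,0],[0,2,0,4,8,6],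[6,2,8,2,8,0],[6,2,6,8],[6,4,6,8],[0,4,2,8,6],[0,4,6,2,8,0],[0,6,0,2,0,2],[6,0,8,4,8],[0,2,4,2,4],[2,6,0,2,6,2],[0,4,0,4,6,8],[2,6,2,4,6],[6,0,4,8,6],[0,8,4,0,8,0],[8,0,2,6,4],[4,6,0,4,8,4,0],[0,8,6,8,6,4,6],[0,4,8,6,4,2],[0,2,0,8,4,0],[0,2,4,0,6,2],[4,0,4,6,0,8],[8,6,2,6],[4,8,4,2],[0,6,4,0,2,4],[8,4,2,6],[4,2,0,4,0,2],[8,0,4,0,8],[4,6,0,2,4],[4,6,8,6,0],[0,4,2,0,6,2],[6,8,2,0,8],[4,8,2,6,0],[0,6,2,8,0,8],[8,0,2,0],[4,0,4,2,8],[0,6,8,6,2,4]]),(27,[[4,8,0,8,4,0,8,0,8,0,8,0,2,0,2,8,2,6,0,2,8,2,6,2],[0,8,0,8,0,8,0,2,0,2,8,2,6,0,2,8,2,6,2],[4,8,0,8,4,0,8,0,8,0,8,0],[0,8,0,8,0,8,0],[0,8,2,4,8,0,2,0,8,2,4,8,0,2,0,8,2,4,8,0,2],[0,8,2,4,8,2,8,2,6,2,0,8,0,8,0,8,0],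[0,8,2,4,8,0,2,0,8,2,4,8,0,2,0,8,0,8,0,2,4,8,0,2],[0,8,2,4,8,0,2,0,8,2,4,8,0,2,4,8,0,8,4,0,8,2,4,8,0,2],[4,8,0,8,4,0,8,0,8,0,8,0,2,0,2,8,2,6,2],[0,8,0,8,0,8,0,2,0,2,8,2,6,2],[4,8,0,8,4,0,8,0,8,0,8,0,2,0,2,8,2,6,0,2,8,2,6,0,2,8,2,6,2],[0,8,0,8,0,8,0,2,0,2,8,2,6,0,2,8,2,6,0,2,8,2,6,2],[2,0,2,8,2,6,2,0,8,2,4,8,0,2,0,8,2,4,8,0,2],[4,8,0,8,4,2,0,2,8,2,6,2,0,8,2,4,8,0,2,0,8,2,4,8,0,2],[4,8,0,8,4,2,0,2,8,2,6,0,2,8,2,6,2,0,8,0,8,0,8,0],[2,0,2,8,2,6,0,2,8,2,6,2,0,8,0,8,0,8,0],[],[4,8,0,8,4],[0,8,0,8,0,8,0,2,0,2,8,2,6,0,2,8,2,6,2,0,8,0,8,0,8,0],[4,8,0,8,4,0,8,0,8,0,8,0,2,0,2,8,2,6,0,2,8,2,6,2,0,8,0,8,0,8,0],[4,8,0,8,4,0,8,2,4,8,2,8,2,6,0,2,8,2,6,0,2,8,2,6,2],[0,8,2,4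,8,2,8,2,6,0,2,8,2,6,0,2,8,2,6,2],[0,8,0,8,0,8,0,2,0,2,8,2,6,2,0,8,0,8,0,8,0],[4,8,0,8,4,0,8,0,8,0,8,0,2,0,2,8,2,6,2,0,8,0,8,0,8,0],[4,8,0,8,4,2,0,2,8,2,6,2,0,8,2,4,8,0,2,0,8,2,4,8,0,2,0,8,2,4,8,0,2],[2,0,2,8,2,6,2,0,8,2,4,8,0,2,0,8,2,4,8,0,2,0,8,2,4,8,0,2],[0,8,2,4,8,2,8,2,6,2],[4,8,0,8,4,0,8,2,4,8,2,8,2,6,2],[2,0,2,8,2,6,0,2,8,2,6,2],[4,8,0,8,4,2,0,2,8,2,6,0,2,8,2,6,2],[4,8,0,8,4,0,8,0,8,0,2,4,8,0,2],[0,8,0,8,0,2,4,8,0,2],[0,8,2,4,8,0,2],[4,8,0,8,4,0,8,2,4,8,0,2],[0,8,2,4,8,0,2,0,8,0,8,0,8,0,4,8,0,8,4,0,8,0,8,0,8,0],[4,8,0,8,4,0,8,2,4,8,0,2,0,8,0,8,0,8,0,4,8,0,8,4,0,8,0,8,0,8,0],[4,8,0,8,4,2,0,2,8,2,6,2],[2,0,2,8,2,6,2],[2,0,2,8,2,6,0,2,8,2,6,2,0,8,2,4,8,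0,2],[4,8,0,8,4,2,0,2,8,2,6,0,2,8,2,6,2,0,8,2,4,8,0,2],[2,0,2,8,2,6,0,2,8,2,6,0,2,8,2,6,2],[4,8,0,8,4,2,0,2,8,2,6,0,2,8,2,6,0,2,8,2,6,2],[4,8,0,8,4,0,8,0,8,0,2,4,8,2,8,2,6,2],[0,8,0,8,0,2,4,8,2,8,2,6,2],[0,8,2,4,8,0,2,0,8,0,8,0,2,4,8,0,2,4,8,0,8,4,0,8,0,8,0,8,0],[0,8,2,4,8,0,2,0,8,0,8,0,8,0,4,8,0,8,4,0,8,2,4,8,0,2,0,8,0,8,0,8,0],[4,8,0,8,4,0,8,2,4,8,2,8,2,6,0,2,8,2,6,2],[0,8,2,4,8,2,8,2,6,0,2,8,2,6,2],[0,8,2,4,8,0,2,0,8,0,8,0,8,0,4,8,0,8,4],[4,8,0,8,4,0,8,2,4,8,0,2,0,8,0,8,0,8,0,4,8,0,8,4],[4,8,0,8,4,0,8,2,4,8,0,2,0,8,0,8,0,8,0],[0,8,2,4,8,0,2,0,8,0,8,0,8,0],[0,8,2,4,8,0,2,0,8,0,8,0,8,0,4,8,0,8,4,0,8,2,4,8,0,2],[0,8,2,4,8,0,2,0,8,0,8,0,2,4,8,0,2,4,8,0,8,4],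[0,8,2,4,8,0,2,0,8,0,8,0,2,4,8,0,2],[4,8,0,8,4,0,8,2,4,8,0,2,0,8,0,8,0,2,4,8,0,2],[2,0,2,8,2,6,2,0,8,0,8,0,8,0,4,8,0,8,4],[0,8,2,4,8,0,2,0,8,2,4,8,2,8,2,6,2],[4,8,0,8,4,2,0,2,8,2,6,2,0,8,0,8,0,8,0],[2,0,2,8,2,6,2,0,8,0,8,0,8,0],[2,0,2,8,2,6,2,0,8,2,4,8,0,2,4,8,0,8,4,2,0,2,8,2,6,2],[4,8,0,8,4,2,0,2,8,2,6,2,0,8,2,4,8,0,2,4,8,0,8,4,2,0,2,8,2,6,2],[4,8,0,8,4,2,0,2,8,2,6,2,0,8,2,4,8,2,8,2,6,2],[2,0,2,8,2,6,2,0,8,2,4,8,2,8,2,6,2],[2,0,2,8,2,6,2,0,8,2,4,8,0,2,4,8,0,8,4,2,0,2,8,2,6,0,2,8,2,6,2],[0,8,2,4,8,2,8,2,6,0,2,8,2,6,2,0,8,2,4,8,0,2,4,8,0,8,4],[0,8,2,4,8,2,8,2,6,0,2,8,2,6,2,0,8,2,4,8,0,2],[2,0,2,8,2,6,2,0,8,2,4,8,2,8,2,6,0,2,8,2,6,2],[4,8,0,8,4,2,0,2,8,2,6,2,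0,8,0,8,0,8,0,2,0,2,8,2,6,2],[2,0,2,8,2,6,2,0,8,0,8,0,8,0,2,0,2,8,2,6,2],[2,0,2,8,2,6,2,0,8,0,8,0,8,0,4,8,0,8,4,2,0,2,8,2,6,2],[2,0,2,8,2,6,0,2,8,2,6,0,2,8,2,6,2,0,8,2,4,8,0,2],[0,8,2,4,8,0,2,0,8,2,4,8,0,2],[4,8,0,8,4,0,8,2,4,8,0,2,0,8,2,4,8,0,2],[0,8,2,4,8,0,2,0,8,2,4,8,0,2,0,8,0,8,0,8,0],[0,8,2,4,8,0,2,0,8,2,4,8,0,2,4,8,0,8,4],[4,8,0,8,4,2,0,2,8,2,6,2,0,8,2,4,8,0,2,4,8,0,8,4],[2,0,2,8,2,6,2,0,8,2,4,8,0,2,4,8,0,8,4],[2,0,2,8,2,6,2,0,8,2,4,8,0,2],[4,8,0,8,4,2,0,2,8,2,6,2,0,8,2,4,8,0,2]]),(1,[[],[2,0,2,8,2,6,2,0,8,2,4,8,0,2,0,8,2,4,8,0,2,0,8,2,4,8,0,2,0,8,2,4,8,2,8,2,6,2],[2,0,2,8,2,6,2,0,8,2,4,8,0,2,0,8,0,8,0,8,0,2,0,2,8,2,6,2,0,8,0,8,0,8,0,2,0,2,8,2,6,2],[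0,8,2,4,8,0,2,0,8,2,4,8,0,2,0,8,2,4,8,0,2,0,8,2,4,8,0,2,0,8,0,8,0,2,4,8,0,2],[0,8,0,8,0,8,0,2,0,2,8,2,6,2,0,8,2,4,8,0,2],[2,0,2,8,2,6,2,0,8,2,4,8,2,8,2,6,2,0,8,0,8,0,8,0,2,0,2,8,2,6,2],[2,0,2,8,2,6,0,2,8,2,6,0,2,8,2,6,2,0,8,2,4,8,0,2,0,8,2,4,8,0,2,0,8,0,8,0,8,0],[0,8,0,8,0,8,0,2,0,2,8,2,6,2,0,8,2,4,8,0,2,0,8,0,8,0,8,0,2,0,2,8,2,6,2,0,8,2,4,8,0,2]]),(11,[[],[0,8,0,8,0,8,0,4,8,0,8,4,0,8,0,8,0,8,0],[0,8,2,4,8,2,8,2,6,2,0,8,2,4,8,2,8,2,6,2,0,8,2,4,8,2,8,2,6,2,0,8,2,4,8,2,8,2,6,2],[2,0,2,8,2,6,2,0,8,2,4,8,0,2,0,8,2,4,8,0,2,0,8,2,4,8,2,8,2,6,0,2,8,2,6,2,0,8,0,8,0,2,4,8,0,2],[4,8,0,8,4,0,8,2,4,8,2,8,2,6,0,2,8,2,6,2,0,8,2,4,8,0,2,0,8,2,4,8,0,2,0,8,2,4,8,0,2],[0,8,2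,4,8,0,2,4,8,0,8,4,2,0,2,8,2,6,0,2,8,2,6,2,0,8,2,4,8,0,2,0,8,2,4,8,0,2,0,8,2,4,8,0,2],[4,8,0,8,4,2,0,2,8,2,6,2,0,8,0,8,0,8,0,2,0,2,8,2,6,2,0,8,2,4,8,0,2,0,8,2,4,8,2,8,2,6,0,2,8,2,6,2],[4,8,0,8,4,2,0,2,8,2,6,0,2,8,2,6,0,2,8,2,6,2,0,8,0,8,0,8,0,2,0,2,8,2,6,2,0,8,2,4,8,0,2,0,8,2,4,8,0,2]]),(91,[[],[0,8,2,4,8,0,2,0,8,2,4,8,0,2,0,8,2,4,8,0,2,0,8,2,4,8,0,2,0,8,2,4,8,0,2,0,8,2,4,8,0,2,0,8,2,4,8,0,2,0,8,2,4,8,0,2]])]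
set_option maxHeartbeats 0 in
set_option maxRecDepth 1000000 in
theorem hLVc : prodLen LV = 17971200 := by decide +kernel
set_option maxHeartbeats 0 in
set_option maxRecDepth 1000000 in
theorem hLV : chkChain CN.τ d N0 [] LV = true := by decide +kernel
theorem hi : Function.Injective ρ0 ∧ Nat.card P = 17971200 := inj_of_chain ρ0 CN hρ0 LV hLVc hLV finite_P.2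
theorem hρ0inj : Function.Injective ρ0 := hi.1
theorem card_P : Nat.card P = 17971200 := hi.2

end Cfsg.Agent.Lib.KnownSimple.MultM.TitsL
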